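import Mathlib

/-!
# A flat local algebra over a local domain with principal maximal ideal whose closed fibre is a
domain is a domain (helper11)
-/

set_option autoImplicit false

namespace Groth.Agent.Lib.helper11.GeomInt

open IsLocalRing

/-- In a Noetherian local ring, a nonzero element can be written as `p ^ n * x'` with
`x' ∉ (p)`, for `p` in the maximal ideal. -/
theorem exists_eq_pow_mul_notMem {B : Type*} [CommRing B] [IsLocalRing B] [IsNoetherianRing B]
    (p : B) (hp : p ∈ maximalIdeal B) (x : B) (hx : x ≠ 0) :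
    ∃ (n : ℕ) (x' : B), x = p ^ n * x' ∧ x' ∉ Ideal.span {p} := by
  classical
  have hne : Ideal.span {p} ≠ ⊤ := by
    intro h
    have h1 : Ideal.span {p} ≤ maximalIdeal B := by
      rw [Ideal.span_le, Set.singleton_subset_iff]
      exact hp
    rw [h] at h1
    exact (maximalIdeal.isMaximal B).ne_top (top_le_iff.mp h1)
  have hK := Ideal.iInf_pow_eq_bot_of_isLocalRing (Ideal.span {p}) hne
  have hex : ∃ n : ℕ, x ∉ Ideal.span {p} ^ n := by
    by_contra hcon
    push Not at hcon
    have : x ∈ ⨅ i, Ideal.span {p} ^ i := by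
      rw [Ideal.mem_iInf]
      exact hcon
    rw [hK] at this
    exact hx this
  let n := Nat.find hex
  have hn : x ∉ Ideal.span {p} ^ n := Nat.find_spec hex
  have hn0 : n ≠ 0 := by
    intro h0
    rw [h0, pow_zero, Ideal.one_eq_top] at hn
    exact hn trivial
  obtain ⟨m, hm⟩ := Nat.exists_eq_succ_of_ne_zero hn0
  have hmem : x ∈ Ideal.span {p} ^ m := by
    by_contra hcon
    have := Nat.find_min' hex hcon
    omega
  rw [Ideal.span_singleton_pow, Ideal.mem_span_singleton'] at hmem
  obtain ⟨x', hx'⟩ := hmem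
  refine ⟨m, x', by rw [← hx', mul_comm], ?_⟩
  intro hx'p
  apply hn
  rw [hm, Nat.succ_eq_add_one, pow_succ, ← hx']
  have h := Ideal.mul_mem_mul_rev hx'p (Ideal.pow_mem_pow (Ideal.mem_span_singleton_self p) m)
  rwa [mul_comm (p ^ m) x', mul_comm (Ideal.span {p}) _] at h

theorem isDomain_of_isDomain_quotient_span {B : Type*} [CommRing B] [IsLocalRing B]
    [IsNoetherianRing B] (p : B) (hp : p ∈ maximalIdeal B) (hreg : IsSMulRegular B p)
    [hq : IsDomain (B ⧸ Ideal.span {p})] : IsDomain B := by
  haveI : NoZeroDivisors B := by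
    refine ⟨fun {a b} hab => ?_⟩
    by_contra hcon
    push Not at hcon
    obtain ⟨ha, hb⟩ := hcon
    obtain ⟨i, a', rfl, ha'⟩ := exists_eq_pow_mul_notMem p hp a ha
    obtain ⟨j, b', rfl, hb'⟩ := exists_eq_pow_mul_notMem p hp b hb
    have h1 : p ^ (i + j) * (a' * b') = 0 := by
      rw [← hab]; ring
    have hreg' : IsSMulRegular B (p ^ (i + j)) := hreg.pow _
    have h2 : a' * b' = 0 := by
      apply hreg'
      simp only [smul_eq_mul, mul_zero]
      exact h1
    have h3 : (Ideal.Quotient.mk (Ideal.span {p}) a') * (Ideal.Quotient.mk (Ideal.span {p}) b') = 0 := by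
      rw [← map_mul, h2, map_zero]
    rcases mul_eq_zero.mp h3 with h | h
    · exact ha' (Ideal.Quotient.eq_zero_iff_mem.mp h)
    · exact hb' (Ideal.Quotient.eq_zero_iff_mem.mp h)
  exact NoZeroDivisors.to_isDomain B

/-- **Lemma CA.** -/
theorem isDomain_of_flat_of_isDomain_quotient {A B : Type*} [CommRing A] [IsDomain A]
    [IsLocalRing A] [CommRing B] [IsLocalRing B] [IsNoetherianRing B] [Algebra A B]
    [Module.Flat A B] [IsLocalHom (algebraMap A B)] (ϖ : A)
    (hϖ : maximalIdeal A = Ideal.span {ϖ})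
    (hq : IsDomain (B ⧸ (maximalIdeal A).map (algebraMap A B))) : IsDomain B := by
  have hmap : (maximalIdeal A).map (algebraMap A B) = Ideal.span {algebraMap A B ϖ} := by
    rw [hϖ, Ideal.map_span, Set.image_singleton]
  by_cases h0 : ϖ = 0
  · have hbot : (maximalIdeal A).map (algebraMap A B) = ⊥ := by
      rw [hmap, h0, map_zero, Ideal.span_singleton_eq_bot]
    have e : (B ⧸ (maximalIdeal A).map (algebraMap A B)) ≃+* B :=
      (Ideal.quotEquivOfEq hbot).trans (RingEquiv.quotientBot B)
    exact e.symm.toMulEquiv.isDomain _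
  · have hmem : ϖ ∈ maximalIdeal A := by
      rw [hϖ]; exact Ideal.mem_span_singleton_self ϖ
    have hp : algebraMap A B ϖ ∈ maximalIdeal B := by
      rw [mem_maximalIdeal, mem_nonunits_iff] at hmem ⊢
      intro hu
      exact hmem (isUnit_of_map_unit (algebraMap A B) ϖ hu)
    have hregA : IsSMulRegular A ϖ := by
      intro a b hab
      simp only [smul_eq_mul] at hab
      exact mul_left_cancel₀ h0 hab
    have hreg : IsSMulRegular B (algebraMap A B ϖ) := hregA.of_flat
    haveI : IsDomain (B ⧸ Ideal.span {algebraMap A B ϖ}) :=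
      (Ideal.quotEquivOfEq hmap).symm.toMulEquiv.isDomain _
    exact isDomain_of_isDomain_quotient_span _ hp hreg

end Groth.Agent.Lib.helper11.GeomInt
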