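import Groth.Agent.Lib.helper11.GeomInt.DvrDomain
import Groth.Agent.Lib.lead.FibreStalkAlg

/-!
# A proper flat scheme over a discrete valuation ring with integral special fibre is irreducible
(helper11)
-/

set_option autoImplicit false

universe u

open AlgebraicGeometry CategoryTheory Limits IsLocalRing

namespace Groth.Agent.Lib.helper11.GeomInt

variable (R : Type u) [CommRing R] [IsDomain R] [IsDiscreteValuationRing R]

/-- the maximal ideal of the local ring of `Spec R` at the closed point is principal. -/
theorem exists_maximalIdeal_stalk_eq_span (x : Spec (CommRingCat.of R)) (hx : x = closedPoint R) :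
    ∃ ϖ : (Spec (CommRingCat.of R)).presheaf.stalk x,
      maximalIdeal ((Spec (CommRingCat.of R)).presheaf.stalk x) = Ideal.span {ϖ} := by
  subst hx
  letI algA : Algebra R ↑((Spec (CommRingCat.of R)).presheaf.stalk (closedPoint R)) :=
    StructureSheaf.stalkAlgebra R (closedPoint R)
  haveI locA : IsLocalization.AtPrime
      (↑((Spec (CommRingCat.of R)).presheaf.stalk (closedPoint R)))
      (closedPoint R).asIdeal := StructureSheaf.IsLocalization.to_stalk R (closedPoint R)
  obtain ⟨ϖ, hϖ⟩ := IsDiscreteValuationRing.exists_irreducible R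
  refine ⟨algebraMap R _ ϖ, ?_⟩
  rw [← IsLocalization.AtPrime.map_eq_maximalIdeal (closedPoint R).asIdeal]
  have : (closedPoint R).asIdeal = Ideal.span {ϖ} := hϖ.maximalIdeal_eq
  rw [this, Ideal.map_span, Set.image_singleton]

variable {R}
variable {W : Scheme.{u}} (g : W ⟶ Spec (CommRingCat.of R))

theorem isIntegral_fiber_of_eq [IsIntegral (g.fiber (closedPoint R))]
    (x : Spec (CommRingCat.of R)) (hx : x = closedPoint R) : IsIntegral (g.fiber x) := by
  subst hx; infer_instance

/-- local rings of `W` at points of the special fibre are domains. -/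
theorem isDomain_stalk_of_specialFibre [LocallyOfFiniteType g] [Flat g]
    [IsIntegral (g.fiber (closedPoint R))] (w : W) (hw : g w = closedPoint R) :
    IsDomain (W.presheaf.stalk w) := by
  haveI : IsLocallyNoetherian W := LocallyOfFiniteType.isLocallyNoetherian g
  letI alg : Algebra ((Spec (CommRingCat.of R)).presheaf.stalk (g w)) (W.presheaf.stalk w) :=
    (g.stalkMap w).hom.toAlgebra
  haveI : Module.Flat ((Spec (CommRingCat.of R)).presheaf.stalk (g w)) (W.presheaf.stalk w) :=
    Flat.stalkMap g w
  haveI : IsLocalHom (algebraMap ((Spec (CommRingCat.of R)).presheaf.stalk (g w))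
      (W.presheaf.stalk w)) := by
    show IsLocalHom (g.stalkMap w).hom
    infer_instance
  obtain ⟨ϖ, hϖ⟩ := exists_maximalIdeal_stalk_eq_span R (g w) hw
  haveI := isIntegral_fiber_of_eq g (g w) hw
  obtain ⟨e, -⟩ := Groth.Agent.Lib.lead.FibreStalkAlg.exists_ringEquiv g w
  have hq : IsDomain (W.presheaf.stalk w ⧸
      (maximalIdeal ((Spec (CommRingCat.of R)).presheaf.stalk (g w))).map
        (algebraMap ((Spec (CommRingCat.of R)).presheaf.stalk (g w)) (W.presheaf.stalk w))) :=
    e.toMulEquiv.isDomain _
  exact isDomain_of_flat_of_isDomain_quotient ϖ hϖ hq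

/-- every point of `W` specialises to a point of the special fibre. -/
theorem exists_specializes_specialFibre [UniversallyClosed g] (ζ : W) :
    ∃ w : W, ζ ⤳ w ∧ g w = closedPoint R := by
  have hcl : IsClosed (g '' closure {ζ}) := g.isClosedMap _ isClosed_closure
  have h1 : g ζ ∈ g '' closure {ζ} := ⟨ζ, subset_closure rfl, rfl⟩
  have h2 : g ζ ⤳ closedPoint R := IsLocalRing.specializes_closedPoint _
  obtain ⟨w, hw, hgw⟩ := h2.mem_closed hcl h1
  exact ⟨w, specializes_iff_mem_closure.mpr hw, hgw⟩

theorem irreducibleSpace_of_proper_flat_dvr [IsProper g] [Flat g]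
    [IsIntegral (g.fiber (closedPoint R))] : IrreducibleSpace W := by
  -- the generic point of the special fibre
  let ξ₀ : g.fiber (closedPoint R) := genericPoint _
  let ξ : W := g.fiberι (closedPoint R) ξ₀
  have hξ : g ξ = closedPoint R := by
    have : ξ ∈ Set.range (g.fiberι (closedPoint R)) := ⟨ξ₀, rfl⟩
    rw [g.range_fiberι] at this
    exact this
  have hξgen : ∀ w : W, g w = closedPoint R → ξ ⤳ w := by
    intro w hw
    have : w ∈ Set.range (g.fiberι (closedPoint R)) := by
      rw [g.range_fiberι]; exact hw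
    obtain ⟨w₀, rfl⟩ := this
    exact (genericPoint_specializes w₀).map (g.fiberι (closedPoint R)).continuous
  -- the generic point of `Spec O_{W,w}` for `w` in the special fibre
  have key : ∀ w : W, g w = closedPoint R → ∃ ζw : W, ∀ z : W, z ⤳ w → ζw ⤳ z := by
    intro w hw
    haveI := isDomain_stalk_of_specialFibre g w hw
    refine ⟨W.fromSpecStalk w (genericPoint (Spec (W.presheaf.stalk w))), ?_⟩
    intro z hz
    have : z ∈ Set.range (W.fromSpecStalk w) := by
      rw [Scheme.range_fromSpecStalk]; exact hz
    obtain ⟨z₀, rfl⟩ := this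
    exact (genericPoint_specializes z₀).map (W.fromSpecStalk w).continuous
  obtain ⟨ζ₀, hζ₀⟩ := key ξ hξ
  have hall : ∀ ζ : W, ζ₀ ⤳ ζ := by
    intro ζ
    obtain ⟨w, hζw, hw⟩ := exists_specializes_specialFibre g ζ
    obtain ⟨ζw, hζw'⟩ := key w hw
    have h1 : ζw ⤳ ζ := hζw' ζ hζw
    have h2 : ζw ⤳ ξ := hζw' ξ (hξgen w hw)
    have h3 : ζ₀ ⤳ ζw := hζ₀ ζw h2
    exact h3.trans h1
  have huniv : closure ({ζ₀} : Set W) = Set.univ := by
    rw [Set.eq_univ_iff_forall]
    intro ζ
    exact specializes_iff_mem_closure.mp (hall ζ)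
  have : IsIrreducible (Set.univ : Set W) := by
    rw [← huniv]
    exact isIrreducible_singleton.closure
  exact (irreducibleSpace_def W).mpr this

end Groth.Agent.Lib.helper11.GeomInt
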