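import Groth.Agent.Lib.helper11.GeomInt.DvrIrred
import Groth.Agent.Lib.helper11.AbsIrr.SchBasic
import Groth.Agent.Lib.lead.DvrCountB
import Groth.Agent.Lib.Helper4.DvrGen
import Groth.Agent.S1539
import Groth.Agent.S9735
import Groth.Agent.S9764

/-!
# Geometric integrality of the fibres of a proper flat morphism is stable under generization
(locally Noetherian base) (helper11)
-/

set_option autoImplicit false

universe u

open AlgebraicGeometry CategoryTheory Limits IsLocalRing

namespace Groth.Agent.Lib.helper11.GeomInt

open Groth.Agent.Lib.lead.DvrCountB Groth.Agent.Lib.helper11.AbsIrr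

variable {X Y : Scheme.{u}}

/-- the base change of a proper flat family with geometrically integral closed fibre to a DVR has
irreducible generic fibre. -/
theorem irreducibleSpace_pullback_fraction {L : Type u} [Field L] (R : ValuationSubring L)
    [IsDiscreteValuationRing R] {W : Scheme.{u}} (g : W ⟶ Spec (CommRingCat.of R))
    [IsProper g] [Flat g] [IsIntegral (g.fiber (closedPoint R))] :
    IrreducibleSpace ↑(pullback g (Spec.map (CommRingCat.ofHom R.subtype))) := by
  haveI : IrreducibleSpace W := irreducibleSpace_of_proper_flat_dvr g
  obtain ⟨π, hπ⟩ := IsDiscreteValuationRing.exists_irreducible R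
  haveI := Groth.Agent.Lib.Helper4.DvrGen.isLocalization_away_of_isFractionRing π hπ L
  haveI : IsOpenImmersion (Spec.map (CommRingCat.ofHom (algebraMap R L))) :=
    IsOpenImmersion.of_isLocalization π
  haveI : IsOpenImmersion (Spec.map (CommRingCat.ofHom R.subtype)) := this
  -- nonemptiness
  haveI : Nonempty ↑(pullback g (Spec.map (CommRingCat.ofHom R.subtype))) := by
    obtain ⟨w₀⟩ : Nonempty (g.fiber (closedPoint R)) := inferInstance
    let w : W := g.fiberι (closedPoint R) w₀
    have hgen : (Spec.map (CommRingCat.ofHom R.subtype)) (closedPoint L) ⤳ g w := by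
      rw [specMap_subtype_closedPoint]
      exact genericPoint_specializes _
    obtain ⟨w', -, hw'⟩ := Flat.generalizingMap (f := g) hgen
    obtain ⟨z, -, -⟩ := Scheme.Pullback.exists_preimage_pullback
      (f := g) (g := Spec.map (CommRingCat.ofHom R.subtype)) w' (closedPoint L) hw'
    exact ⟨z⟩
  exact irreducibleSpace_of_isOpenEmbedding
    (pullback.fst g (Spec.map (CommRingCat.ofHom R.subtype)))
    (pullback.fst g (Spec.map (CommRingCat.ofHom R.subtype))).isOpenEmbedding

theorem geometricallyIntegral_fiber_iff (f : X ⟶ Y) {X' Y' : Scheme.{u}} (g : Y' ⟶ Y)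
    (f' : X' ⟶ Y') (g' : X' ⟶ X) (hc : IsPullback g' f' f g) (y' : Y') :
    GeometricallyIntegral (f'.fiberToSpecResidueField y') ↔
      GeometricallyIntegral (f.fiberToSpecResidueField (g y')) := by
  have h1 := Groth.Agent.S9735.result f g f' g' hc
  have h2 := Groth.Agent.S9764.result f g f' g' hc
  have e1 : GeometricallyReduced (f'.fiberToSpecResidueField y') ↔
      GeometricallyReduced (f.fiberToSpecResidueField (g y')) := by
    have := Set.ext_iff.mp h1 y'
    exact this
  have e2 : GeometricallyIrreducible (f'.fiberToSpecResidueField y') ↔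
      GeometricallyIrreducible (f.fiberToSpecResidueField (g y')) := by
    have := Set.ext_iff.mp h2 y'
    exact this
  constructor
  · intro h
    haveI := e1.mp inferInstance
    haveI := e2.mp inferInstance
    exact GeometricallyIntegral.of_geometricallyReduced_of_geometricallyIrreducible _
  · intro h
    haveI := e1.mpr inferInstance
    haveI := e2.mpr inferInstance
    exact GeometricallyIntegral.of_geometricallyReduced_of_geometricallyIrreducible _

theorem geometricallyIrreducible_fiber_of_specializes [IsLocallyNoetherian Y] (f : X ⟶ Y)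
    [IsProper f] [Flat f] {y y' : Y} (hgen : y' ⤳ y)
    (hy : GeometricallyIntegral (f.fiberToSpecResidueField y)) :
    GeometricallyIrreducible (f.fiberToSpecResidueField y') := by
  by_cases hne : y' = y
  · subst hne; infer_instance
  letI := f.fiberOverSpecResidueField y'
  refine Groth.Agent.S1539.result (Y.residueField y') (f.fiber y') ?_
  intro L _ _ _ _
  obtain ⟨R, toR, hdvr, hloc, hcomp⟩ := exists_dvr_data hgen hne L
  haveI := hdvr
  haveI := hloc
  let gm : Spec (CommRingCat.of R) ⟶ Y := gmap R toR
  let g : pullback f gm ⟶ Spec (CommRingCat.of R) := pullback.snd f gm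
  have hgi : GeometricallyIntegral (g.fiberToSpecResidueField (closedPoint R)) := by
    rw [geometricallyIntegral_fiber_iff f gm g (pullback.fst f gm)
      (IsPullback.of_hasPullback f gm) (closedPoint R)]
    rw [show gm (closedPoint R) = y from gmap_closedPoint R toR]
    exact hy
  haveI : IsIntegral (g.fiber (closedPoint R)) :=
    GeometricallyIntegral.isIntegral_of_subsingleton (g.fiberToSpecResidueField (closedPoint R))
  haveI h0 : IrreducibleSpace ↑(pullback g (Spec.map (CommRingCat.ofHom R.subtype))) :=
    irreducibleSpace_pullback_fraction R g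
  haveI h1 : IrreducibleSpace ↑(pullback f (Spec.map (CommRingCat.ofHom R.subtype) ≫ gm)) :=
    irreducibleSpace_of_iso (pullbackLeftPullbackSndIso f gm _)
  have e := specMap_subtype_gmap hgen R toR hcomp
  haveI h2 : IrreducibleSpace ↑(pullback f
      (Spec.map (CommRingCat.ofHom (algebraMap (Y.residueField y') L)) ≫
        Y.fromSpecResidueField y')) :=
    irreducibleSpace_of_iso (pullback.congrHom rfl e)
  exact @irreducibleSpace_of_iso _ _ (pullbackLeftPullbackSndIso f (Y.fromSpecResidueField y')
    (Spec.map (CommRingCat.ofHom (algebraMap (Y.residueField y') L)))).symm h2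

end Groth.Agent.Lib.helper11.GeomInt
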