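import Groth.Agent.Lib.helper11.GeomInt.GenStable
import Groth.Agent.Lib.helper11.AbsIrr.CountOne
import Groth.Agent.Lib.helper11.H0Model
import Groth.Agent.Lib.lead.GROpenH
import Groth.Agent.Lib.lead.LscFlatProper
import Groth.Agent.S1338
import Groth.Agent.S1301

/-!
# Openness of the locus of geometrically integral fibres of a proper flat morphism of finite
presentation (helper11)
-/

set_option autoImplicit false

universe u

open AlgebraicGeometry CategoryTheory Limits IsLocalRing Topology

namespace Groth.Agent.Lib.helper11.GeomInt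

open Groth.Agent.Lib.helper11.AbsIrr

variable {X Y : Scheme.{u}}

/-- the locus of geometrically integral fibres -/
def giLocus (f : X ⟶ Y) : Set Y := {y | GeometricallyIntegral (f.fiberToSpecResidueField y)}

theorem giLocus_eq (f : X ⟶ Y) :
    giLocus f = {y | GeometricallyReduced (f.fiberToSpecResidueField y)} ∩
      {y | MoreMor.nGeomIrredComp f y = 1} := by
  ext y
  constructor
  · intro h
    have h' : GeometricallyIntegral (f.fiberToSpecResidueField y) := h
    haveI := h'
    refine ⟨(inferInstance : GeometricallyReduced (f.fiberToSpecResidueField y)), ?_⟩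
    exact nGeomIrredComp_eq_one_of_gi f y (gi_of_geometricallyIrreducible f y inferInstance)
  · rintro ⟨h1, h2⟩
    have h1' : GeometricallyReduced (f.fiberToSpecResidueField y) := h1
    haveI := h1'
    haveI := geometricallyIrreducible_fiber_of_gi f y (gi_of_nGeomIrredComp_eq_one f y h2)
    exact GeometricallyIntegral.of_geometricallyReduced_of_geometricallyIrreducible _

theorem giLocus_preimage (f : X ⟶ Y) {X' Y' : Scheme.{u}} (g : Y' ⟶ Y)
    (f' : X' ⟶ Y') (g' : X' ⟶ X) (hc : IsPullback g' f' f g) :
    giLocus f' = g ⁻¹' giLocus f := by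
  ext y'
  exact geometricallyIntegral_fiber_iff f g f' g' hc y'

/-- Noetherian affine base. -/
theorem isOpen_giLocus_noeth (B : Type u) [CommRing B] [IsNoetherianRing B]
    (f : X ⟶ Spec (CommRingCat.of B)) [IsProper f] [Flat f] [LocallyOfFinitePresentation f] :
    IsOpen (giLocus f) := by
  have hredOpen := Groth.Agent.Lib.lead.GROpen.isOpen_geometricallyReduced_fiber f
  have hcons : IsConstructible (giLocus f) := by
    rw [giLocus_eq]
    exact (Groth.Agent.S1301.result f).isConstructible.inter
      (Groth.Agent.S1338.result f 1).isConstructible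
  have hgen : StableUnderGeneralization (giLocus f) := by
    intro y y' hyy' hy
    have hy' : GeometricallyIntegral (f.fiberToSpecResidueField y) := hy
    haveI : GeometricallyReduced (f.fiberToSpecResidueField y') :=
      hredOpen.stableUnderGeneralization hyy' (show GeometricallyReduced _ from inferInstance)
    haveI := geometricallyIrreducible_fiber_of_specializes f hyy' hy'
    exact GeometricallyIntegral.of_geometricallyReduced_of_geometricallyIrreducible _
  exact PrimeSpectrum.isOpen_of_stableUnderGeneralization_of_isConstructible hgen hcons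

open Groth.Agent.Lib.lead.HensK Groth.Agent.Lib.helper11.H0 in
/-- affine base -/
theorem isOpen_giLocus_Spec (B : Type u) [CommRing B]
    (f : X ⟶ Spec (CommRingCat.of B)) [IsProper f] [Flat f] [LocallyOfFinitePresentation f] :
    IsOpen (giLocus f) := by
  let D := fgDiag B
  let c := fgCone B
  have hc : IsLimit c := fgIsLimit B
  haveI : ∀ i, CompactSpace (D.obj i) := fun i => inferInstance
  haveI : ∀ i, QuasiSeparatedSpace (D.obj i) := fun i => inferInstance
  haveI : ∀ (i j : (Finset B)ᵒᵖ) (a : i ⟶ j), IsAffineHom (D.map a) := fun i j a => inferInstance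
  let f' : X ⟶ c.pt := f
  haveI : IsProper f' := ‹IsProper f›
  haveI : Flat f' := ‹Flat f›
  haveI : LocallyOfFinitePresentation f' := ‹LocallyOfFinitePresentation f›
  obtain ⟨j₀, Y₀, h₀, g₀, hprop, hflat, hfp, hpb⟩ := exists_proper_flat_fp_model D c hc f'
  haveI := hprop
  haveI := hflat
  haveI := hfp
  haveI : IsNoetherianRing (fgSub B j₀.unop) := by
    infer_instance
  let h₀' : Y₀ ⟶ Spec (CommRingCat.of (fgSub B j₀.unop)) := h₀
  haveI : IsProper h₀' := hprop
  haveI : Flat h₀' := hflat
  haveI : LocallyOfFinitePresentation h₀' := hfp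
  have hopen := isOpen_giLocus_noeth (fgSub B j₀.unop) h₀'
  let g : c.pt ⟶ D.obj j₀ := c.π.app j₀
  have hpb' : IsPullback g₀ f' h₀ g := hpb
  have := giLocus_preimage h₀ g f' g₀ hpb'
  show IsOpen (giLocus f')
  rw [this]
  exact hopen.preimage g.continuous

/-- general base -/
theorem isOpen_giLocus (f : X ⟶ Y) [IsProper f] [Flat f] [LocallyOfFinitePresentation f] :
    IsOpen (giLocus f) := by
  rw [isOpen_iff_forall_mem_open]
  intro y hy
  obtain ⟨U, hU, hyU⟩ : ∃ U : Y.Opens, IsAffineOpen U ∧ y ∈ U := by
    obtain ⟨U, hU, hsU, -⟩ := TopologicalSpace.Opens.isBasis_iff_nbhd.mp Y.isBasis_affineOpens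
      (U := ⊤) (x := y) trivial
    exact ⟨U, hU, hsU⟩
  let g : Spec Γ(Y, U) ⟶ Y := hU.fromSpec
  have hpb : IsPullback (pullback.fst f g) (pullback.snd f g) f g := IsPullback.of_hasPullback f g
  have hopen := isOpen_giLocus_Spec Γ(Y, U) (pullback.snd f g)
  have hpre := giLocus_preimage f g (pullback.snd f g) (pullback.fst f g) hpb
  refine ⟨g '' (giLocus (pullback.snd f g)), ?_, g.isOpenEmbedding.isOpenMap _ hopen, ?_⟩
  · rintro _ ⟨z, hz, rfl⟩
    rw [hpre] at hz
    exact hz
  · refine ⟨hU.primeIdealOf ⟨y, hyU⟩, ?_, hU.fromSpec_primeIdealOf ⟨y, hyU⟩⟩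
    rw [hpre]
    show g (hU.primeIdealOf ⟨y, hyU⟩) ∈ giLocus f
    rw [show g (hU.primeIdealOf ⟨y, hyU⟩) = y from hU.fromSpec_primeIdealOf ⟨y, hyU⟩]
    exact hy

end Groth.Agent.Lib.helper11.GeomInt
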